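import Mathlib
import Cfsg.Agent.Helper7.ChevFix4
import Cfsg.Agent.Helper7.ChevRootCent

set_option autoImplicit false

/-!
# S2371 (`G₂(q)`, `q ≥ 3`: a self-centralizing cyclic subgroup of order `q² + q + 1`): shared definitions

The long roots of `G₂` form a subsystem of type `A₂`; with the tables of `Def_ChevG2` the assignment
`x_{ij}(t) ↦ x_{r(i,j)}(t)` (no signs) respects the Steinberg relations of `SL₃`:
`r(0,1) = 6 (= b)`, `r(1,2) = 10 (= 3a+b)`, `r(0,2) = 11 (= 3a+2b)`, `r(j,i) = 11 - r(i,j)`.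
-/

namespace Cfsg.Agent.G2Tor

open Cfsg Cfsg.Lie Matrix Cfsg.Agent.Helper7.Chev

/-- The table facts of `G₂`. -/
theorem gt_G2 : Good2 chevG2 := good3_G2.toGood2

theorem gt_G1 : Good1 chevG2 := good3_G2.toGood2.toGood1

/-- The long root of `G₂` attached to the position `(i, j)` of `SL₃` (value `0` on the diagonal, never used). -/
def gtRoot (i j : Fin 3) : ℕ :=
  match i.val, j.val with
  | 0, 1 => 6
  | 1, 2 => 10
  | 0, 2 => 11
  | 1, 0 => 5
  | 2, 1 => 1
  | 2, 0 => 0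
  | _, _ => 0

theorem gtRoot_lt (i j : Fin 3) : gtRoot i j < chevG2.nroots := by
  fin_cases i <;> fin_cases j <;> decide

/-- A homomorphism `SL₃(K) → GL₁₄(K)` sending the elementary matrix `x_{ij}(t)` to the root element
`x_{r(i,j)}(t)` of `G₂(K)`. -/
def GtSpec {K : Type*} [Field K] (φ : Matrix.SpecialLinearGroup (Fin 3) K →* GL chevG2.Idx K) : Prop :=
  ∀ (i j : Fin 3) (hij : i ≠ j) (t : K),
    φ (Matrix.SpecialLinearGroup.transvection hij t) = xGL gt_G1 (gtRoot_lt i j) t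

/-- The diagonal matrix `diag(d₀, d₁, d₂)` of determinant one. -/
def gtDiag {K : Type*} [Field K] (d : Fin 3 → K) (hd : d 0 * d 1 * d 2 = 1) :
    Matrix.SpecialLinearGroup (Fin 3) K :=
  ⟨Matrix.diagonal d, by rw [Matrix.det_diagonal, Fin.prod_univ_three, hd]⟩

@[simp] theorem gtDiag_coe {K : Type*} [Field K] (d : Fin 3 → K) (hd : d 0 * d 1 * d 2 = 1) :
    ((gtDiag d hd : Matrix.SpecialLinearGroup (Fin 3) K) : Matrix (Fin 3) (Fin 3) K) =
      Matrix.diagonal d := rfl

/-- The torus parameters `(c₀, c₁) = (d₀ d₁, d₀² d₁)` of the image of `diag(d₀, d₁, d₂)`. -/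
def gtPar {K : Type*} [Field K] (d : Fin 3 → K) : ℕ → K :=
  fun i => if i = 0 then d 0 * d 1 else d 0 ^ 2 * d 1

/-- The cyclic permutation matrix `P` with `P e_k = e_{k+1}`: `P i k = 1` iff `i = k + 1`. -/
def gtPermMat (K : Type*) [Field K] : Matrix (Fin 3) (Fin 3) K :=
  !![0, 0, 1; 1, 0, 0; 0, 1, 0]

theorem gtPermMat_det (K : Type*) [Field K] : (gtPermMat K).det = 1 := by
  simp [gtPermMat, Matrix.det_fin_three]

/-- The cyclic permutation matrix in `SL₃`. -/
def gtPerm (K : Type*) [Field K] : Matrix.SpecialLinearGroup (Fin 3) K :=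
  ⟨gtPermMat K, gtPermMat_det K⟩

end Cfsg.Agent.G2Tor
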