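import Mathlib
import Cfsg.Agent.G2Tor.Defs

set_option autoImplicit false

/-!
# S2371, package P4: the element `tMat (gtPar ![ζ, ζ^q, ζ^(q²)])` is regular

The twelve root values are `ζ ^ e`, `e = -q-2, -2q-1, -q-1, -1, -q, q-1, 1-q, q, 1, q+1, 2q+1, q+2`; they are pairwise
distinct and different from `1` when `ζ` has order `q² + q + 1` and `q ≥ 3`.
-/

namespace Cfsg.Agent.G2Tor
open Cfsg Cfsg.Lie Matrix Cfsg.Agent.Helper7.Chev

/-- The coefficient of `q` in the exponent of the `s`-th root value. -/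
def gt_p4_a (s : Fin 12) : ℤ := ![-1, -2, -1, 0, -1, 1, -1, 1, 0, 1, 2, 1] s
/-- The constant coefficient in the exponent of the `s`-th root value. -/
def gt_p4_b (s : Fin 12) : ℤ := ![-2, -1, -1, -1, 0, -1, 1, 0, 1, 1, 1, 2] s

theorem gt_p4_tEntry {K : Type*} [Field K] (c : ℕ → K) (s : Fin 12) :
    tEntry chevG2 (List.range chevG2.rank) c (Sum.inr s) =
      c 0 ^ chevG2.cartan 0 s.val * c 1 ^ chevG2.cartan 1 s.val := by
  show ((List.range 2).map (fun i => c i ^ chevG2.cartan i s.val)).prod = _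
  simp [List.range_succ]

theorem gt_p4_cartan0 (s : Fin 12) :
    chevG2.cartan 0 s.val = ![0, -3, -1, 1, -2, 3, -3, 2, -1, 1, 3, 0] s := by
  fin_cases s <;> rfl

theorem gt_p4_cartan1 (s : Fin 12) :
    chevG2.cartan 1 s.val = ![-1, 1, 0, -1, 1, -2, 2, -1, 1, 0, -1, 1] s := by
  fin_cases s <;> rfl

theorem gt_p4_entry {K : Type*} [Field K] (q : ℕ) (u : Kˣ) (s : Fin 12) :
    tEntry chevG2 (List.range chevG2.rank)
      (gtPar ![(u : K), (u : K) ^ q, (u : K) ^ q ^ 2]) (Sum.inr s) =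
      ((u ^ (gt_p4_a s * q + gt_p4_b s) : Kˣ) : K) := by
  rw [gt_p4_tEntry, gt_p4_cartan0, gt_p4_cartan1]
  have h0 : gtPar ![(u : K), (u : K) ^ q, (u : K) ^ q ^ 2] 0 = ((u ^ ((1 : ℤ) + q) : Kˣ) : K) := by
    rw [_root_.zpow_add, zpow_one, zpow_natCast]
    simp [gtPar]
  have h1 : gtPar ![(u : K), (u : K) ^ q, (u : K) ^ q ^ 2] 1 = ((u ^ ((2 : ℤ) + q) : Kˣ) : K) := by
    rw [_root_.zpow_add, zpow_natCast]
    simp [gtPar]
  rw [h0, h1, ← Units.val_zpow_eq_zpow_val, ← Units.val_zpow_eq_zpow_val, ← Units.val_mul,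
    ← _root_.zpow_mul, ← _root_.zpow_mul, ← _root_.zpow_add]
  congr 2
  fin_cases s <;> simp [gt_p4_a, gt_p4_b] <;> ring

theorem gt_p4_dvd_small (q : ℤ) (hq : 3 ≤ q) (α β : ℤ) (hα : |α| ≤ 4) (hβ : |β| ≤ 4)
    (h : (q ^ 2 + q + 1) ∣ α * q + β) :
    α * q + β = 0 ∨ (q = 3 ∧ (α * q + β = 13 ∨ α * q + β = -13)) := by
  obtain ⟨hα1, hα2⟩ := abs_le.mp hα
  obtain ⟨hβ1, hβ2⟩ := abs_le.mp hβ
  have hbound : |α * q + β| ≤ 4 * q + 4 := by
    rw [abs_le]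
    constructor <;> nlinarith
  rcases eq_or_lt_of_le hq with h3 | h4
  · subst h3
    obtain ⟨k, hk⟩ := h
    norm_num at hk hbound ⊢
    rw [abs_le] at hbound
    omega
  · left
    apply Int.eq_zero_of_abs_lt_dvd h
    have : 4 * q + 4 < q ^ 2 + q + 1 := by nlinarith
    omega

theorem gt_p4_a_abs (s : Fin 12) : |gt_p4_a s| ≤ 2 := by
  fin_cases s <;> simp [gt_p4_a]

theorem gt_p4_b_abs (s : Fin 12) : |gt_p4_b s| ≤ 2 := by
  fin_cases s <;> simp [gt_p4_b]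

/-- No exponent is divisible by `N`. -/
theorem gt_p4_not_dvd (q : ℕ) (hq : 3 ≤ q) (s : Fin 12) :
    ¬ ((q : ℤ) ^ 2 + q + 1) ∣ gt_p4_a s * q + gt_p4_b s := by
  intro h
  have hq' : (3 : ℤ) ≤ q := by exact_mod_cast hq
  have := gt_p4_dvd_small q hq' (gt_p4_a s) (gt_p4_b s)
    ((gt_p4_a_abs s).trans (by norm_num)) ((gt_p4_b_abs s).trans (by norm_num)) h
  revert this
  fin_cases s <;> simp [gt_p4_a, gt_p4_b] <;> omega

/-- No difference of two exponents is divisible by `N`. -/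
theorem gt_p4_not_dvd_sub (q : ℕ) (hq : 3 ≤ q) (s s' : Fin 12) (hss : s ≠ s') :
    ¬ ((q : ℤ) ^ 2 + q + 1) ∣
      (gt_p4_a s * q + gt_p4_b s) - (gt_p4_a s' * q + gt_p4_b s') := by
  intro h
  have hq' : (3 : ℤ) ≤ q := by exact_mod_cast hq
  have e : (gt_p4_a s * q + gt_p4_b s) - (gt_p4_a s' * q + gt_p4_b s') =
      (gt_p4_a s - gt_p4_a s') * q + (gt_p4_b s - gt_p4_b s') := by ring
  rw [e] at h
  have ha : |gt_p4_a s - gt_p4_a s'| ≤ 4 := by
    have := abs_sub (gt_p4_a s) (gt_p4_a s')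
    have := gt_p4_a_abs s
    have := gt_p4_a_abs s'
    linarith
  have hb : |gt_p4_b s - gt_p4_b s'| ≤ 4 := by
    have := abs_sub (gt_p4_b s) (gt_p4_b s')
    have := gt_p4_b_abs s
    have := gt_p4_b_abs s'
    linarith
  have := gt_p4_dvd_small q hq' _ _ ha hb h
  revert this hss
  fin_cases s <;> fin_cases s' <;> simp [gt_p4_a, gt_p4_b] <;> omega

theorem gt_regular {K : Type*} [Field K] (q : ℕ) (hq : 3 ≤ q) (ζ : K)
    (hζ : orderOf ζ = q ^ 2 + q + 1) :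
    (∀ s : Fin chevG2.nroots,
      tEntry chevG2 (List.range chevG2.rank) (gtPar ![ζ, ζ ^ q, ζ ^ q ^ 2]) (Sum.inr s) ≠ 1) ∧
    (∀ s s' : Fin chevG2.nroots, s ≠ s' →
      tEntry chevG2 (List.range chevG2.rank) (gtPar ![ζ, ζ ^ q, ζ ^ q ^ 2]) (Sum.inr s) ≠
        tEntry chevG2 (List.range chevG2.rank) (gtPar ![ζ, ζ ^ q, ζ ^ q ^ 2]) (Sum.inr s')) := by
  have hζ0 : ζ ≠ 0 := by
    rintro rfl
    have : orderOf (0 : K) = 0 := by
      rw [orderOf_eq_zero_iff']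
      intro n hn
      simp [zero_pow hn.ne']
    rw [this] at hζ
    omega
  obtain ⟨u, rfl⟩ : ∃ u : Kˣ, (u : K) = ζ := ⟨Units.mk0 ζ hζ0, rfl⟩
  have hu : (orderOf u : ℤ) = (q : ℤ) ^ 2 + q + 1 := by
    rw [← orderOf_units, hζ]
    push_cast
    ring
  constructor
  · intro s
    change Fin 12 at s
    rw [gt_p4_entry, Ne, Units.val_eq_one, ← orderOf_dvd_iff_zpow_eq_one, hu]
    exact gt_p4_not_dvd q hq s
  · intro s s' hss
    change Fin 12 at s s'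
    rw [gt_p4_entry, gt_p4_entry, Ne, Units.val_inj, ← mul_inv_eq_one, ← _root_.zpow_neg,
      ← _root_.zpow_add, ← sub_eq_add_neg, ← orderOf_dvd_iff_zpow_eq_one, hu]
    exact gt_p4_not_dvd_sub q hq s s' hss

end Cfsg.Agent.G2Tor

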