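import Mathlib
import Cfsg.Agent.G2Tor.Defs
import Cfsg.Agent.Helper7.ChevHConj
import Cfsg.Agent.Helper7.Transvections
import Cfsg.Agent.S2401

set_option autoImplicit false

/-!
# S2371, package P1a: the homomorphism `SL₃(K) → GL₁₄(K)` onto the long-root `A₂` of `G₂(K)` (finite `K`),
from the Steinberg presentation S2401.
-/

namespace Cfsg.Agent.G2Tor

open Cfsg Cfsg.Lie Matrix Cfsg.Agent.Helper7.Chev

section

variable {K : Type*} [Field K]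

/-- Two root elements with `commTerms r s = []` commute. -/
theorem gt_p1a_comm0 {r s : ℕ} (hr : r < chevG2.nroots) (hs : s < chevG2.nroots) (hsr : s ≠ r)
    (hsn : s ≠ chevG2.neg r) (h0 : chevG2.commTerms r s = []) (t u : K) :
    xGL gt_G1 hr t * xGL gt_G1 hs u = xGL gt_G1 hs u * xGL gt_G1 hr t := by
  have hc : Comm chevG2 K r s := comm_all gt_G2 good3_G2.t3 good3_G2.t4 hr hs hsr hsn
  have h1 := hc t u
  have hw : chevG2.commWord K r s t u = [] := by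
    unfold ChevalleyDatum.commWord
    rw [h0]
    rfl
  rw [hw] at h1
  have hw1 : chevG2.wordMat K [] = 1 := by
    unfold ChevalleyDatum.wordMat
    simp
  rw [hw1, mul_one] at h1
  apply Units.ext
  rw [Units.val_mul, Units.val_mul, xGL_coe, xGL_coe]
  exact h1.symm

/-- Same root: the root elements commute. -/
theorem gt_p1a_comm_same {r s : ℕ} (hr : r < chevG2.nroots) (hs : s < chevG2.nroots) (hrs : r = s)
    (t u : K) : xGL gt_G1 hr t * xGL gt_G1 hs u = xGL gt_G1 hs u * xGL gt_G1 hr t := by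
  subst hrs
  rw [xGL_mul, xGL_mul, add_comm]

/-- The commutator formula with a single term of coefficient `1`. -/
theorem gt_p1a_comm1 {r s k : ℕ} (hr : r < chevG2.nroots) (hs : s < chevG2.nroots)
    (hk : k < chevG2.nroots) (hsr : s ≠ r)
    (hsn : s ≠ chevG2.neg r) (h1 : chevG2.commTerms r s = [(k, 1, 1, 1)]) (t u : K) :
    xGL gt_G1 hs u * xGL gt_G1 hr t = xGL gt_G1 hr t * xGL gt_G1 hs u * xGL gt_G1 hk (-(t * u)) := by
  have hc : Comm chevG2 K r s := comm_all gt_G2 good3_G2.t3 good3_G2.t4 hr hs hsr hsn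
  have h2 := hc t u
  have hw : chevG2.commWord K r s t u = [(k, -(t * u))] := by
    unfold ChevalleyDatum.commWord
    rw [h1]
    simp
  rw [hw] at h2
  have hw1 : chevG2.wordMat K [(k, -(t * u))] = chevG2.x K k (-(t * u)) := by
    unfold ChevalleyDatum.wordMat
    simp
  rw [hw1] at h2
  apply Units.ext
  rw [Units.val_mul, Units.val_mul, Units.val_mul, xGL_coe, xGL_coe, xGL_coe]
  exact h2

/-- The Steinberg relation (R3) for root elements. -/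
theorem gt_p1a_rel3 {r s k : ℕ} (hr : r < chevG2.nroots) (hs : s < chevG2.nroots)
    (hk : k < chevG2.nroots) (hsr : s ≠ r)
    (hsn : s ≠ chevG2.neg r) (h1 : chevG2.commTerms r s = [(k, 1, 1, 1)])
    (hkr : k ≠ r) (hkrn : k ≠ chevG2.neg r) (hkr0 : chevG2.commTerms r k = [])
    (hks : k ≠ s) (hksn : k ≠ chevG2.neg s) (hks0 : chevG2.commTerms s k = []) (t u : K) :
    xGL gt_G1 hr t * xGL gt_G1 hs u * (xGL gt_G1 hr t)⁻¹ * (xGL gt_G1 hs u)⁻¹ *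
      (xGL gt_G1 hk (t * u))⁻¹ = 1 := by
  have e1 := gt_p1a_comm1 hr hs hk hsr hsn h1 t u
  have c1 : ∀ a b : K, xGL gt_G1 hr a * xGL gt_G1 hk b = xGL gt_G1 hk b * xGL gt_G1 hr a :=
    fun a b => gt_p1a_comm0 hr hk hkr hkrn hkr0 a b
  have c2 : ∀ a b : K, xGL gt_G1 hs a * xGL gt_G1 hk b = xGL gt_G1 hk b * xGL gt_G1 hs a :=
    fun a b => gt_p1a_comm0 hs hk hks hksn hks0 a b
  -- `x_r(t) x_s(u) = x_s(u) x_r(t) x_k(t u)`
  have e2 : xGL gt_G1 hr t * xGL gt_G1 hs u =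
      xGL gt_G1 hs u * xGL gt_G1 hr t * xGL gt_G1 hk (t * u) := by
    have : xGL gt_G1 hk (-(t * u)) * xGL gt_G1 hk (t * u) = (1 : GL chevG2.Idx K) := by
      rw [xGL_mul, neg_add_cancel, xGL_zero]
    rw [e1, mul_assoc, this, mul_one]
  rw [xGL_inv, xGL_inv, xGL_inv, e2]
  -- move `x_k(t u)` to the right
  have s1 : xGL gt_G1 hk (t * u) * xGL gt_G1 hr (-t) = xGL gt_G1 hr (-t) * xGL gt_G1 hk (t * u) :=
    (c1 (-t) (t * u)).symm
  have s2 : xGL gt_G1 hk (t * u) * xGL gt_G1 hs (-u) = xGL gt_G1 hs (-u) * xGL gt_G1 hk (t * u) :=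
    (c2 (-u) (t * u)).symm
  calc xGL gt_G1 hs u * xGL gt_G1 hr t * xGL gt_G1 hk (t * u) * xGL gt_G1 hr (-t) *
        xGL gt_G1 hs (-u) * xGL gt_G1 hk (-(t * u))
      = xGL gt_G1 hs u * xGL gt_G1 hr t * (xGL gt_G1 hk (t * u) * xGL gt_G1 hr (-t)) *
        xGL gt_G1 hs (-u) * xGL gt_G1 hk (-(t * u)) := by group
    _ = xGL gt_G1 hs u * (xGL gt_G1 hr t * xGL gt_G1 hr (-t)) *
        (xGL gt_G1 hk (t * u) * xGL gt_G1 hs (-u)) * xGL gt_G1 hk (-(t * u)) := by rw [s1]; group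
    _ = xGL gt_G1 hs u * xGL gt_G1 hs (-u) * (xGL gt_G1 hk (t * u) * xGL gt_G1 hk (-(t * u))) := by
        rw [s2, xGL_mul, add_neg_cancel, xGL_zero]; group
    _ = 1 := by
        rw [xGL_mul, xGL_mul, add_neg_cancel, add_neg_cancel, xGL_zero, xGL_zero, one_mul]

end

/-- Table facts for (R2). -/
theorem gt_p1a_tab2 : ∀ i j k l : Fin 3, i ≠ j → k ≠ l → i ≠ l → j ≠ k →
    (gtRoot i j = gtRoot k l) ∨ (gtRoot k l ≠ gtRoot i j ∧ gtRoot k l ≠ chevG2.neg (gtRoot i j) ∧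
      chevG2.commTerms (gtRoot i j) (gtRoot k l) = []) := by
  decide

/-- Table facts for (R3). -/
theorem gt_p1a_tab3 : ∀ i j l : Fin 3, i ≠ j → j ≠ l → i ≠ l →
    (gtRoot j l ≠ gtRoot i j ∧ gtRoot j l ≠ chevG2.neg (gtRoot i j) ∧
      chevG2.commTerms (gtRoot i j) (gtRoot j l) = [(gtRoot i l, 1, 1, 1)]) ∧
    (gtRoot i l ≠ gtRoot i j ∧ gtRoot i l ≠ chevG2.neg (gtRoot i j) ∧
      chevG2.commTerms (gtRoot i j) (gtRoot i l) = []) ∧
    (gtRoot i l ≠ gtRoot j l ∧ gtRoot i l ≠ chevG2.neg (gtRoot j l) ∧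
      chevG2.commTerms (gtRoot j l) (gtRoot i l) = []) := by
  decide

theorem gt_phi_exists (K : Type*) [Field K] [Finite K] :
    ∃ φ : Matrix.SpecialLinearGroup (Fin 3) K →* GL chevG2.Idx K, GtSpec φ := by
  obtain ⟨e, he⟩ := Cfsg.Agent.S2401.result (K := K) 3 le_rfl
  -- the images of the generators
  let f : ({ij : Fin 3 × Fin 3 // ij.1 ≠ ij.2} × K) → GL chevG2.Idx K :=
    fun q => xGL gt_G1 (gtRoot_lt q.1.1.1 q.1.1.2) q.2
  have hrels : ∀ r ∈ ({g : FreeGroup ({ij : Fin 3 × Fin 3 // ij.1 ≠ ij.2} × K) | ∃ (a : {ij : Fin 3 × Fin 3 // ij.1 ≠ ij.2}) (t u : K), g = FreeGroup.of (a, t) * FreeGroup.of (a, u) * (FreeGroup.of (a, t + u))⁻¹} ∪ {g | ∃ (a b : {ij : Fin 3 × Fin 3 // ij.1 ≠ ij.2}) (t u : K), a.1.1 ≠ b.1.2 ∧ a.1.2 ≠ b.1.1 ∧ g = FreeGroup.of (a, t) * FreeGroup.of (b, u) * (FreeGroup.of (a, t))⁻¹ * (FreeGroup.of (b, u))⁻¹} ∪ {g | ∃ (a b : {ij : Fin 3 × Fin 3 // ij.1 ≠ ij.2}) (h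 : a.1.1 ≠ b.1.2) (t u : K), a.1.2 = b.1.1 ∧ g = FreeGroup.of (a, t) * FreeGroup.of (b, u) * (FreeGroup.of (a, t))⁻¹ * (FreeGroup.of (b, u))⁻¹ * (FreeGroup.of (⟨(a.1.1, b.1.2), h⟩, t * u))⁻¹}), FreeGroup.lift f r = 1 := by
    rintro r ((⟨a, t, u, rfl⟩ | ⟨a, b, t, u, h1, h2, rfl⟩) | ⟨a, b, h, t, u, h1, rfl⟩)
    · -- (R1)
      simp only [map_mul, map_inv, FreeGroup.lift_apply_of, f]
      rw [xGL_mul, mul_inv_cancel]
    · -- (R2)
      simp only [map_mul, map_inv, FreeGroup.lift_apply_of, f]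
      obtain ⟨⟨i, j⟩, hij⟩ := a
      obtain ⟨⟨k, l⟩, hkl⟩ := b
      simp only at hij hkl h1 h2 ⊢
      have hcomm : xGL gt_G1 (gtRoot_lt i j) t * xGL gt_G1 (gtRoot_lt k l) u =
          xGL gt_G1 (gtRoot_lt k l) u * xGL gt_G1 (gtRoot_lt i j) t := by
        rcases gt_p1a_tab2 i j k l hij hkl h1 h2 with heq | ⟨n1, n2, n3⟩
        · exact gt_p1a_comm_same _ _ heq t u
        · exact gt_p1a_comm0 _ _ n1 n2 n3 t u
      rw [hcomm]
      group
    · -- (R3)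
      simp only [map_mul, map_inv, FreeGroup.lift_apply_of, f]
      obtain ⟨⟨i, j⟩, hij⟩ := a
      obtain ⟨⟨k, l⟩, hkl⟩ := b
      simp only at hij hkl h h1 ⊢
      subst h1
      obtain ⟨⟨a1, a2, a3⟩, ⟨b1, b2, b3⟩, ⟨c1, c2, c3⟩⟩ := gt_p1a_tab3 i j l hij hkl h
      exact gt_p1a_rel3 (gtRoot_lt i j) (gtRoot_lt j l) (gtRoot_lt i l) a1 a2 a3 b1 b2 b3 c1 c2 c3 t u
  refine ⟨(PresentedGroup.toGroup hrels).comp e.symm.toMonoidHom, ?_⟩
  intro i j hij t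
  have h1 : e (PresentedGroup.of (⟨(i, j), hij⟩, t)) = Matrix.SpecialLinearGroup.transvection hij t := by
    apply Subtype.ext
    exact he ⟨(i, j), hij⟩ t
  have h2 : e.symm (Matrix.SpecialLinearGroup.transvection hij t) = PresentedGroup.of (⟨(i, j), hij⟩, t) := by
    rw [← h1, MulEquiv.symm_apply_apply]
  rw [MonoidHom.comp_apply, MulEquiv.coe_toMonoidHom, h2, PresentedGroup.toGroup.of]

end Cfsg.Agent.G2Tor
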