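import Mathlib
import Cfsg.Agent.G2Tor.Defs
import Cfsg.Agent.Helper7.ChevHConj
import Cfsg.Agent.Helper7.Transvections
import Cfsg.Agent.Helper7.ChevFix1
import Cfsg.Agent.Helper7.ChevPerfect

set_option autoImplicit false
set_option linter.unusedSectionVars false
set_option linter.unusedVariables false

/-!
# S2371, package P1b: consequences of `GtSpec φ` (any field)
-/

namespace Cfsg.Agent.G2Tor

open Cfsg Cfsg.Lie Matrix Cfsg.Agent.Helper7.Chev

section P1b

variable {K : Type*} [Field K] {φ : Matrix.SpecialLinearGroup (Fin 3) K →* GL chevG2.Idx K}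

theorem gt_phi_mem (hφ : GtSpec φ) (g : Matrix.SpecialLinearGroup (Fin 3) K) :
    φ g ∈ chevG2.group K := by
  refine Cfsg.Agent.Helper7.Transv.transvection_induction
    (fun g => φ g ∈ chevG2.group K) ?_ ?_ g
  · intro i j hij a
    change φ (Matrix.SpecialLinearGroup.transvection hij a) ∈ chevG2.group K
    rw [hφ i j hij a]
    exact xGL_mem_group gt_G2 (gtRoot_lt i j) a
  · intro A B hA hB
    change φ (A * B) ∈ chevG2.group K
    rw [map_mul]
    exact mul_mem hA hB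

/-- `tMat` only depends on the first `rank` parameters. -/
theorem gt_p1b_tMat_congr {D : ChevalleyDatum} {c c' : ℕ → K} (h : ∀ i < D.rank, c i = c' i) :
    tMat D c = tMat D c' := by
  unfold tMat
  congr 1
  funext v
  rcases v with j | s
  · simp [tEntry]
  · simp only [tEntry, Sum.elim_inr]
    congr 1
    apply List.map_congr_left
    intro i hi
    rw [h i (List.mem_range.mp hi)]

/-- The image of `diag2n` is `h_r(a)`. -/
theorem gt_p1b_diag2n (hφ : GtSpec φ) {i j : Fin 3} (hij : i ≠ j)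
    (hneg : chevG2.neg (gtRoot i j) = gtRoot j i) (a : K) (ha : a ≠ 0) :
    ((φ (Matrix.SpecialLinearGroup.diag2n hij a ha) : GL chevG2.Idx K) :
      Matrix chevG2.Idx chevG2.Idx K) = chevG2.hMat K (gtRoot i j) a := by
  rw [Cfsg.Agent.Helper7.Transv.diag2n_decompose hij a ha]
  simp only [map_mul, Units.val_mul]
  rw [hφ i j hij a, hφ j i hij.symm (-a⁻¹), hφ i j hij (-1), hφ j i hij.symm 1]
  simp only [xGL_coe]
  unfold ChevalleyDatum.hMat ChevalleyDatum.hWord ChevalleyDatum.nWord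
  simp only [List.cons_append, List.nil_append, wordMat_cons, wordMat_nil, mul_one, hneg]
  have h1 : -(-1 : K)⁻¹ = 1 := by norm_num
  rw [h1]
  simp only [Matrix.mul_assoc]

theorem gt_p1b_diag_eq (d : Fin 3 → K) (hd : d 0 * d 1 * d 2 = 1) (h0 : d 0 ≠ 0)
    (h01 : d 0 * d 1 ≠ 0) :
    gtDiag d hd = Matrix.SpecialLinearGroup.diag2n (show (0 : Fin 3) ≠ 1 by decide) (d 0) h0 *
      Matrix.SpecialLinearGroup.diag2n (show (1 : Fin 3) ≠ 2 by decide) (d 0 * d 1) h01 := by
  apply Subtype.ext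
  rw [Matrix.SpecialLinearGroup.coe_mul, gtDiag_coe, Matrix.SpecialLinearGroup.diag2n_coe,
    Matrix.SpecialLinearGroup.diag2n_coe, Matrix.diagonal_mul_diagonal]
  congr 1
  funext k
  have h2 : d 2 = (d 0 * d 1)⁻¹ := eq_inv_of_mul_eq_one_right hd
  fin_cases k
  · simp
  · simp [h0]
  · simp [h2]

theorem gt_p1b_ne (d : Fin 3 → K) (hd : d 0 * d 1 * d 2 = 1) :
    d 0 ≠ 0 ∧ d 1 ≠ 0 ∧ d 2 ≠ 0 := by
  refine ⟨?_, ?_, ?_⟩ <;> intro h <;> rw [h] at hd <;> simp at hd

theorem gt_phi_diag (hφ : GtSpec φ) (d : Fin 3 → K) (hd : d 0 * d 1 * d 2 = 1) :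
    ((φ (gtDiag d hd) : GL chevG2.Idx K) : Matrix chevG2.Idx chevG2.Idx K) =
      tMat chevG2 (gtPar d) := by
  obtain ⟨h0, h1, h2⟩ := gt_p1b_ne d hd
  have h01 : d 0 * d 1 ≠ 0 := mul_ne_zero h0 h1
  rw [gt_p1b_diag_eq d hd h0 h01, map_mul, Units.val_mul,
    gt_p1b_diag2n hφ _ (by decide) (d 0) h0, gt_p1b_diag2n hφ _ (by decide) (d 0 * d 1) h01]
  have e1 : gtRoot 0 1 = 6 := rfl
  have e2 : gtRoot 1 2 = 10 := rfl
  rw [e1, e2, hMat_eq_tMat gt_G1 (by decide) h0, hMat_eq_tMat gt_G1 (by decide) h01, tMat_mul]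
  apply gt_p1b_tMat_congr
  intro i hi
  have hi' : i < 2 := hi
  interval_cases i
  · have c1 : cr chevG2 6 0 = 0 := by decide
    have c2 : cr chevG2 10 0 = 1 := by decide
    simp only [c1, c2, gtPar]
    simp
  · have c1 : cr chevG2 6 1 = 1 := by decide
    have c2 : cr chevG2 10 1 = 1 := by decide
    simp only [c1, c2, gtPar]
    simp
    ring

theorem gt_p1b_diag2n_mem (hφ : GtSpec φ) {i j : Fin 3} (hij : i ≠ j)
    (hneg : chevG2.neg (gtRoot i j) = gtRoot j i) (a : K) (ha : a ≠ 0) :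
    φ (Matrix.SpecialLinearGroup.diag2n hij a ha) ∈ chevG2.diagonalSubgroup K :=
  Subgroup.subset_closure ⟨gtRoot i j, a, gtRoot_lt i j, ha, gt_p1b_diag2n hφ hij hneg a ha⟩

theorem gt_phi_diag_mem (hφ : GtSpec φ) (d : Fin 3 → K) (hd : d 0 * d 1 * d 2 = 1) :
    φ (gtDiag d hd) ∈ chevG2.diagonalSubgroup K := by
  obtain ⟨h0, h1, h2⟩ := gt_p1b_ne d hd
  have h01 : d 0 * d 1 ≠ 0 := mul_ne_zero h0 h1
  rw [gt_p1b_diag_eq d hd h0 h01, map_mul]
  exact mul_mem (gt_p1b_diag2n_mem hφ _ (by decide) (d 0) h0)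
    (gt_p1b_diag2n_mem hφ _ (by decide) (d 0 * d 1) h01)

theorem gt_phi_diag_surj (hφ : GtSpec φ) {h : GL chevG2.Idx K}
    (hh : h ∈ chevG2.diagonalSubgroup K) :
    ∃ (d : Fin 3 → K) (hd : d 0 * d 1 * d 2 = 1), φ (gtDiag d hd) = h := by
  obtain ⟨c, hc, hmat⟩ := diagonalSubgroup_torus gt_G1 hh
  have hc0 : c 0 ≠ 0 := hc 0 (by decide)
  have hc1 : c 1 ≠ 0 := hc 1 (by decide)
  have hd : (![c 1 / c 0, c 0 ^ 2 / c 1, (c 0)⁻¹] : Fin 3 → K) 0 *
      (![c 1 / c 0, c 0 ^ 2 / c 1, (c 0)⁻¹] : Fin 3 → K) 1 *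
      (![c 1 / c 0, c 0 ^ 2 / c 1, (c 0)⁻¹] : Fin 3 → K) 2 = 1 := by
    simp only [Matrix.cons_val_zero, Matrix.cons_val_one, Matrix.cons_val_two, Matrix.head_cons,
      Matrix.tail_cons]
    field_simp
  refine ⟨_, hd, ?_⟩
  apply Units.ext
  rw [gt_phi_diag hφ, hmat]
  apply gt_p1b_tMat_congr
  intro i hi
  have hi' : i < 2 := hi
  interval_cases i
  · simp only [gtPar, if_true, Matrix.cons_val_zero, Matrix.cons_val_one, Matrix.head_cons]
    field_simp
  · simp only [gtPar, Matrix.cons_val_zero, Matrix.cons_val_one, Matrix.head_cons]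
    simp
    field_simp

theorem gt_p1b_entry (c : ℕ → K) (s : Fin chevG2.nroots) :
    tEntry chevG2 (List.range chevG2.rank) c (Sum.inr s) =
      c 0 ^ chevG2.cartan 0 s.val * c 1 ^ chevG2.cartan 1 s.val := by
  have : chevG2.rank = 2 := by decide
  simp [tEntry, this, List.range_succ]

theorem gt_phi_diag_inj (hφ : GtSpec φ) (d d' : Fin 3 → K) (hd : d 0 * d 1 * d 2 = 1)
    (hd' : d' 0 * d' 1 * d' 2 = 1) (h : φ (gtDiag d hd) = φ (gtDiag d' hd')) : d = d' := by
  obtain ⟨h0, h1, h2⟩ := gt_p1b_ne d hd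
  obtain ⟨h0', h1', h2'⟩ := gt_p1b_ne d' hd'
  have hm : tMat chevG2 (gtPar d) = tMat chevG2 (gtPar d') := by
    rw [← gt_phi_diag hφ d hd, ← gt_phi_diag hφ d' hd', h]
  have hent : ∀ s : Fin chevG2.nroots,
      tEntry chevG2 (List.range chevG2.rank) (gtPar d) (Sum.inr s) =
        tEntry chevG2 (List.range chevG2.rank) (gtPar d') (Sum.inr s) := by
    intro s
    have := congrFun (congrFun hm (Sum.inr s)) (Sum.inr s)
    unfold tMat at this
    rwa [Matrix.diagonal_apply_eq, Matrix.diagonal_apply_eq] at this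
  have hval : ∀ e : Fin 3 → K, e 0 ≠ 0 → e 1 ≠ 0 →
      tEntry chevG2 (List.range chevG2.rank) (gtPar e) (Sum.inr ⟨8, by decide⟩) = e 0 ∧
      tEntry chevG2 (List.range chevG2.rank) (gtPar e) (Sum.inr ⟨7, by decide⟩) = e 1 := by
    intro e he0 he1
    have c1 : chevG2.cartan 0 8 = -1 := by decide
    have c2 : chevG2.cartan 1 8 = 1 := by decide
    have c3 : chevG2.cartan 0 7 = 2 := by decide
    have c4 : chevG2.cartan 1 7 = -1 := by decide
    constructor
    · rw [gt_p1b_entry]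
      simp only [c1, c2, gtPar]
      simp
      field_simp
    · rw [gt_p1b_entry]
      simp only [c3, c4, gtPar]
      simp
      field_simp
  have e0 : d 0 = d' 0 := by
    rw [← (hval d h0 h1).1, ← (hval d' h0' h1').1]; exact hent _
  have e1 : d 1 = d' 1 := by
    rw [← (hval d h0 h1).2, ← (hval d' h0' h1').2]; exact hent _
  have e2 : d 2 = d' 2 := by
    have a1 : d 2 = (d 0 * d 1)⁻¹ := eq_inv_of_mul_eq_one_right hd
    have a2 : d' 2 = (d' 0 * d' 1)⁻¹ := eq_inv_of_mul_eq_one_right hd'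
    rw [a1, a2, e0, e1]
  funext k
  fin_cases k
  · exact e0
  · exact e1
  · exact e2

theorem gt_p1b_map_transvection {L : Type*} [Field L] (f : K →+* L) {i j : Fin 3} (hij : i ≠ j)
    (a : K) :
    Matrix.SpecialLinearGroup.map f (Matrix.SpecialLinearGroup.transvection hij a) =
      Matrix.SpecialLinearGroup.transvection hij (f a) := by
  apply Subtype.ext
  ext p q
  simp only [Matrix.SpecialLinearGroup.map_apply_coe, RingHom.mapMatrix_apply, Matrix.map_apply,
    Matrix.SpecialLinearGroup.transvection_coe, Matrix.add_apply, Matrix.one_apply,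
    Matrix.single_apply]
  split_ifs <;> simp

theorem gt_phi_natural (hφ : GtSpec φ) {L : Type*} [Field L] (f : K →+* L)
    {ψ : Matrix.SpecialLinearGroup (Fin 3) L →* GL chevG2.Idx L} (hψ : GtSpec ψ)
    (g : Matrix.SpecialLinearGroup (Fin 3) K) :
    ψ (Matrix.SpecialLinearGroup.map f g) = glMap (D := chevG2) f (φ g) := by
  refine Cfsg.Agent.Helper7.Transv.transvection_induction
    (fun g => ψ (Matrix.SpecialLinearGroup.map f g) = glMap (D := chevG2) f (φ g)) ?_ ?_ g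
  · intro i j hij a
    rw [gt_p1b_map_transvection, hψ i j hij (f a), hφ i j hij a, glMap_xGL]
  · intro A B hA hB
    rw [map_mul, map_mul, map_mul, map_mul, hA, hB]

end P1b

end Cfsg.Agent.G2Tor
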