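import Mathlib
import Cfsg.Agent.G2Tor.Defs
import Cfsg.Agent.Helper7.ChevHConj
import Cfsg.Agent.Helper7.ChevRootCent
import Cfsg.Agent.Helper7.ChevRee10
import Cfsg.Agent.Helper7.ChevSub2
import Cfsg.Agent.Helper7.ChevFix2

set_option autoImplicit false
set_option linter.unusedSectionVars false
set_option linter.unusedVariables false

/-!
# S2371, package P3: the centralizer of a regular element of the torus of a Chevalley group is the torus
-/

namespace Cfsg.Agent.G2Tor

open Cfsg Cfsg.Lie Matrix Cfsg.Agent.Helper7.Chev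

variable {D : ChevalleyDatum} {K : Type*} [Field K]

section generic

variable (hG : Good2 D) (hT : T0 D) (h3 : (tabOf D).T3) (h4 : (tabOf D).T4 60) (h5 : (tabOf D).T5)
  (h6 : (tabOf D).T6) (h7 : (tabOf D).T7) (h8 : (tabOf D).T8) (h9 : (tabOf D).T9)

theorem gt_p3_x_zero (D : ChevalleyDatum) (r : ℕ) : D.x K r (0 : K) = 1 := by
  unfold ChevalleyDatum.x
  split_ifs with h
  · exact Cfsg.Agent.Helper7.xMat_zero D ⟨r, h⟩
  · rfl

/-- The root value of the torus element with parameters `c`. -/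
def gt_p3_chi (D : ChevalleyDatum) (c : ℕ → K) (s : ℕ) : K :=
  ((List.range D.rank).map (fun i => c i ^ D.cartan i s)).prod

theorem gt_p3_chi_eq (c : ℕ → K) (s : Fin D.nroots) :
    gt_p3_chi D c s.val = tEntry D (List.range D.rank) c (Sum.inr s) := rfl

include hG in
/-- Moving a torus element through a word. -/
theorem gt_p3_tMat_mul_word (c : ℕ → K) (hc : ∀ i < D.rank, c i ≠ 0) (w : List (ℕ × K))
    (hw : ∀ p ∈ w, p.1 < D.nroots) :
    tMat D c * D.wordMat K w =
      D.wordMat K (w.map fun p => (p.1, gt_p3_chi D c p.1 * p.2)) * tMat D c := by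
  induction w with
  | nil => simp [wordMat_nil]
  | cons p w ih =>
    have hp : p.1 < D.nroots := hw p List.mem_cons_self
    have hw' : ∀ p ∈ w, p.1 < D.nroots := fun p hp => hw p (List.mem_cons_of_mem _ hp)
    rw [List.map_cons, wordMat_cons, wordMat_cons, ← Matrix.mul_assoc, tMat_mul_x hG c hc hp,
      Matrix.mul_assoc, ih hw', ← Matrix.mul_assoc]
    rfl

include hG hT h3 h4 h7 h8 in
/-- An element of `U` commuting with a torus element whose root values are all different from `1` is trivial. -/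
theorem gt_p3_pos_comm (c : ℕ → K) (hc : ∀ i < D.rank, c i ≠ 0)
    (hne1 : ∀ s < D.nroots, gt_p3_chi D c s ≠ 1)
    {t u : GL D.Idx K} (ht : (t : Matrix D.Idx D.Idx K) = tMat D c) (hu : u ∈ D.posUnipotent K)
    (hcomm : t * u = u * t) : u = 1 := by
  have hG1 := hG.toGood1
  obtain ⟨a, ha1, ha2⟩ := posUnipotent_word hG hT h3 h4 h7 hu
  have hlt : ∀ p ∈ D.posRoots.map (fun r => (r, a r)), p.1 < D.nroots := by
    intro p hp
    rw [List.mem_map] at hp
    obtain ⟨r, hr, rfl⟩ := hp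
    unfold ChevalleyDatum.posRoots at hr
    rw [List.mem_filter, List.mem_range] at hr
    exact hr.1
  have e1 := gt_p3_tMat_mul_word hG c hc _ hlt
  rw [List.map_map] at e1
  have e2 : (t : Matrix D.Idx D.Idx K) * (u : Matrix D.Idx D.Idx K) =
      (u : Matrix D.Idx D.Idx K) * (t : Matrix D.Idx D.Idx K) := by
    rw [← Units.val_mul, ← Units.val_mul, hcomm]
  rw [ht, ha2, e1] at e2
  -- cancel the torus element
  have htinv : (tMat D c) * ((t⁻¹ : GL D.Idx K) : Matrix D.Idx D.Idx K) = 1 := by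
    rw [← ht, ← Units.val_mul, mul_inv_cancel, Units.val_one]
  have e3 := congrArg (fun M => M * ((t⁻¹ : GL D.Idx K) : Matrix D.Idx D.Idx K)) e2
  simp only [Matrix.mul_assoc, htinv, Matrix.mul_one] at e3
  rw [posRoots_eq hT] at e3
  have hle : D.nroots / 2 ≤ D.nroots := Nat.div_le_self _ _
  have huniq := word_unique hG hT h8 (D.nroots - D.nroots / 2) (D.nroots / 2) (by omega) le_rfl
    (fun r => gt_p3_chi D c r * a r) a e3
  have hzero : ∀ r, a r = 0 := by
    intro r
    by_cases hr : D.IsPosRoot r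
    · have hrm := (isPosRoot_iff hT hr.1).mp hr
      have := huniq r (by rw [List.mem_range'_1]; have := hr.1; omega)
      by_contra hne
      apply hne1 r hr.1
      have h' : (gt_p3_chi D c r - 1) * a r = 0 := by rw [sub_mul, one_mul, this, sub_self]
      rcases mul_eq_zero.mp h' with h'' | h''
      · exact sub_eq_zero.mp h''
      · exact absurd h'' hne
    · exact ha1 r hr
  apply Units.ext
  rw [ha2, Units.val_one]
  have : (D.posRoots.map fun r => (r, a r)) = D.posRoots.map fun r => (r, (0 : K)) := by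
    apply List.map_congr_left
    intro r _
    rw [hzero r]
  rw [this]
  generalize D.posRoots = L
  induction L with
  | nil => exact wordMat_nil
  | cons r L ih => rw [List.map_cons, wordMat_cons, ih, gt_p3_x_zero, Matrix.one_mul]

include hG in
/-- Conjugation of a root element by a torus element. -/
theorem gt_p3_conj_x (c : ℕ → K) (hc : ∀ i < D.rank, c i ≠ 0) {t : GL D.Idx K}
    (ht : (t : Matrix D.Idx D.Idx K) = tMat D c) {s : ℕ} (hs : s < D.nroots) (a : K) :
    t * xGL hG.toGood1 hs a * t⁻¹ = xGL hG.toGood1 hs (gt_p3_chi D c s * a) := by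
  rw [mul_inv_eq_iff_eq_mul]
  apply Units.ext
  rw [Units.val_mul, Units.val_mul, ht, xGL_coe, xGL_coe]
  exact tMat_mul_x hG c hc hs a

include hG hT h6 h8 h9 in
/-- An element of `N` commuting with a torus element whose root values are pairwise different lies in `H`. -/
theorem gt_p3_mono_comm (c : ℕ → K) (hc : ∀ i < D.rank, c i ≠ 0)
    (hinj : ∀ s < D.nroots, ∀ s' < D.nroots, s ≠ s' → gt_p3_chi D c s ≠ gt_p3_chi D c s')
    {t n : GL D.Idx K} (ht : (t : Matrix D.Idx D.Idx K) = tMat D c) (hn : n ∈ D.monomialSubgroup K)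
    (hcomm : n * t = t * n) : n ∈ D.diagonalSubgroup K := by
  have hG1 := hG.toGood1
  obtain ⟨h₀, hh₀, w, hw, rfl⟩ := monomialSubgroup_le_nWords hG hT h9 hn
  have hfix : ∀ s < D.nroots, (tabOf D).reflWord w s = s := by
    intro s hs
    by_contra hne
    have hs' := reflWord_lt hG hw hs
    obtain ⟨κ, hκ, hconj⟩ := diag_nWordGL_conj (K := K) hG hh₀ hw hs
    set n := h₀ * nWordGL hG w with hn'
    have e1 : t * (n * xGL hG1 hs 1 * n⁻¹) * t⁻¹ = n * (t * xGL hG1 hs 1 * t⁻¹) * n⁻¹ := by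
      have h1 : t * (n * xGL hG1 hs 1 * n⁻¹) * t⁻¹ = (t * n) * xGL hG1 hs 1 * (t * n)⁻¹ := by group
      have h2 : n * (t * xGL hG1 hs 1 * t⁻¹) * n⁻¹ = (n * t) * xGL hG1 hs 1 * (n * t)⁻¹ := by group
      rw [h1, h2, hcomm]
    rw [hconj, gt_p3_conj_x hG c hc ht hs', gt_p3_conj_x hG c hc ht hs, hconj] at e1
    have e2 := xGL_injective hG hT h8 hs' e1
    rw [mul_one, mul_one, mul_comm] at e2
    have e3 := mul_left_cancel₀ hκ e2
    exact hinj _ hs' _ hs hne e3
  have hwH : (nWordGL hG w : GL D.Idx K) ∈ D.diagonalSubgroup K :=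
    nWordGL_mem_diagonal_of_pos hG hT h6 h8 w.length w rfl hw
      (fun s hs hsp => by rw [hfix s hs]; exact hsp)
  exact mul_mem hh₀ hwH

include hG hT h3 h4 h5 h6 h7 h8 h9 in
/-- The centralizer of a regular torus element is contained in `H`. -/
theorem gt_p3_centralizer (c : ℕ → K) (hc : ∀ i < D.rank, c i ≠ 0)
    (hne1 : ∀ s < D.nroots, gt_p3_chi D c s ≠ 1)
    (hinj : ∀ s < D.nroots, ∀ s' < D.nroots, s ≠ s' → gt_p3_chi D c s ≠ gt_p3_chi D c s')
    {t g : GL D.Idx K} (ht : (t : Matrix D.Idx D.Idx K) = tMat D c)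
    (htH : t ∈ D.diagonalSubgroup K) (hg : g ∈ D.group K) (hcomm : g * t = t * g) :
    g ∈ D.diagonalSubgroup K := by
  have hG1 := hG.toGood1
  have hUB : D.posUnipotent K ≤ D.borelSubgroup K := le_sup_left
  have hHB : D.diagonalSubgroup K ≤ D.borelSubgroup K := le_sup_right
  obtain ⟨hex, huniq⟩ := bruhat_normal_form (F := K) hG hT h3 h4 h5 h6 h8 h9
  obtain ⟨b, hb, n, hn, u, hu, e⟩ := hex g hg
  have hnNorm := monomialSubgroup_le_normalizer hG hn
  have hnh : n * t * n⁻¹ ∈ D.diagonalSubgroup K := conj_mem_diagonal hnNorm htH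
  -- `t⁻¹ u t ∈ U_n⁻`
  have hu'' : t⁻¹ * u * t⁻¹⁻¹ ∈ Subgroup.closure (minusGen' D K n) := by
    refine conj_closure_le t⁻¹ ?_ u hu
    rintro x ⟨r, a, hr, hle, hx⟩
    have hr' := hr.1
    have hx' : x = xGL hG1 hr' a := eq_xGL hG1 hr' hx
    obtain ⟨a', ha'⟩ := diagonal_conj_xGL hG (inv_mem htH) hr' a
    rw [hx', ha']
    exact Subgroup.subset_closure ⟨r, a', hr, hle, xGL_coe hG1 hr' a'⟩
  have e1 : b * (n * t * n⁻¹) * n * (t⁻¹ * u * t⁻¹⁻¹) = t * b * n * u := by
    calc b * (n * t * n⁻¹) * n * (t⁻¹ * u * t⁻¹⁻¹) = (b * n * u) * t := by group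
      _ = g * t := by rw [e]
      _ = t * g := hcomm
      _ = t * (b * n * u) := by rw [e]
      _ = _ := by group
  obtain ⟨-, huq⟩ := huniq (b * (n * t * n⁻¹)) (t * b) n n (t⁻¹ * u * t⁻¹⁻¹) u
    (mul_mem hb (hHB hnh)) (mul_mem (hHB htH) hb) hn hn hu'' hu e1
  obtain ⟨hbb, huu⟩ := huq rfl
  -- `u = 1`
  have hu1 : u = 1 := by
    apply gt_p3_pos_comm hG hT h3 h4 h7 h8 c hc hne1 ht (minusGen'_le_pos n hu)
    calc t * u = t * (t⁻¹ * u * t⁻¹⁻¹) := by rw [huu]
      _ = u * t := by group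
  -- `b = u_b h_b`
  obtain ⟨ub, hub, hb', hhb', rfl⟩ := borel_decomp hG hb
  have hcommH : ∀ a ∈ D.diagonalSubgroup K, ∀ c ∈ D.diagonalSubgroup K, a * c = c * a :=
    diagonalSubgroup_comm hG1
  set k := n * t * n⁻¹ with hk
  -- `k t⁻¹ ∈ U ∩ H`
  have e2 : k * t⁻¹ = hb'⁻¹ * (ub⁻¹ * (t * ub * t⁻¹)) * hb'⁻¹⁻¹ := by
    have e3 : k = (ub * hb')⁻¹ * (t * (ub * hb')) := by
      rw [← hbb]; group
    have c1 : hb' * t = t * hb' := hcommH _ hhb' _ htH
    calc k * t⁻¹ = (ub * hb')⁻¹ * (t * (ub * hb')) * t⁻¹ := by rw [e3]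
      _ = hb'⁻¹ * ub⁻¹ * t * ub * (hb' * t⁻¹) := by group
      _ = hb'⁻¹ * ub⁻¹ * t * ub * (t⁻¹ * hb') := by
          have : hb' * t⁻¹ = t⁻¹ * hb' := by
            rw [eq_inv_mul_iff_mul_eq, ← mul_assoc, ← c1, mul_assoc, mul_inv_cancel, mul_one]
          rw [this]
      _ = _ := by group
  have hU : k * t⁻¹ ∈ D.posUnipotent K := by
    rw [e2]
    have hn2 := diagonalSubgroup_le_normalizer_pos hG htH
    have hn3 := diagonalSubgroup_le_normalizer_pos hG (inv_mem hhb')
    have : ub⁻¹ * (t * ub * t⁻¹) ∈ D.posUnipotent K :=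
      mul_mem (inv_mem hub) ((Subgroup.mem_set_normalizer_iff.mp hn2 _).mp hub)
    exact (Subgroup.mem_set_normalizer_iff.mp hn3 _).mp this
  have hH : k * t⁻¹ ∈ D.diagonalSubgroup K := mul_mem hnh (inv_mem htH)
  have hkt : k = t := by
    have : k * t⁻¹ ∈ D.posUnipotent K ⊓ D.diagonalSubgroup K := ⟨hU, hH⟩
    rw [posUnipotent_inf_diagonal hG hT, Subgroup.mem_bot] at this
    exact mul_inv_eq_one.mp this
  -- `n ∈ H`
  have hnH : n ∈ D.diagonalSubgroup K := by
    apply gt_p3_mono_comm hG hT h6 h8 h9 c hc hinj ht hn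
    calc n * t = (n * t * n⁻¹) * n := by group
      _ = t * n := by rw [← hk, hkt]
  -- `u_b = 1`
  have hub1 : ub = 1 := by
    apply gt_p3_pos_comm hG hT h3 h4 h7 h8 c hc hne1 ht hub
    have c1 : hb' * t = t * hb' := hcommH _ hhb' _ htH
    have e4 : ub * hb' * t = t * (ub * hb') := by
      have := hbb
      rw [hkt] at this
      exact this
    calc t * ub = (t * (ub * hb')) * hb'⁻¹ := by group
      _ = (ub * hb' * t) * hb'⁻¹ := by rw [e4]
      _ = ub * (hb' * t) * hb'⁻¹ := by group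
      _ = ub * (t * hb') * hb'⁻¹ := by rw [c1]
      _ = ub * t := by group
  rw [e, hub1, hu1, one_mul, mul_one]
  exact mul_mem hhb' hnH

end generic

/-- Package P3: the centralizer in `G₂(K)` of a regular element of the torus is the torus. -/
theorem gt_centralizer_regular {K : Type*} [Field K] (c : ℕ → K) (hc : ∀ i < chevG2.rank, c i ≠ 0)
    (hne1 : ∀ s : Fin chevG2.nroots, tEntry chevG2 (List.range chevG2.rank) c (Sum.inr s) ≠ 1)
    (hinj : ∀ s s' : Fin chevG2.nroots, s ≠ s' →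
      tEntry chevG2 (List.range chevG2.rank) c (Sum.inr s) ≠
        tEntry chevG2 (List.range chevG2.rank) c (Sum.inr s'))
    {t g : GL chevG2.Idx K} (ht : (t : Matrix chevG2.Idx chevG2.Idx K) = tMat chevG2 c)
    (htH : t ∈ chevG2.diagonalSubgroup K)
    (hg : g ∈ chevG2.group K) (hcomm : g * t = t * g) : g ∈ chevG2.diagonalSubgroup K := by
  refine gt_p3_centralizer gt_G2 T0_G2 good3_G2.t3 good3_G2.t4 T5_G2 T6_G2 T7_G2 T8_G2 T9_G2 c hc
    (fun s hs => hne1 ⟨s, hs⟩) (fun s hs s' hs' hne => ?_) ht htH hg hcomm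
  exact hinj ⟨s, hs⟩ ⟨s', hs'⟩ (fun h => hne (congrArg Fin.val h))

end Cfsg.Agent.G2Tor
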