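import Mathlib
import Cfsg.Agent.G2Tor.Defs

set_option autoImplicit false

/-!
# S2371: `3 × 3` facts on the diagonal and the cyclic permutation matrices of `SL₃`
-/

namespace Cfsg.Agent.G2Tor

open Cfsg Cfsg.Lie Matrix

/-! ### `3 × 3` facts -/

section three

variable {K : Type*} [Field K]

theorem gt_diag_congr {d d' : Fin 3 → K} (h : d = d') (hd : d 0 * d 1 * d 2 = 1)
    (hd' : d' 0 * d' 1 * d' 2 = 1) : gtDiag d hd = gtDiag d' hd' := by
  subst h; rfl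

theorem gt_diag_pow (d : Fin 3 → K) (hd : d 0 * d 1 * d 2 = 1) (k : ℕ)
    (hk : (d ^ k) 0 * (d ^ k) 1 * (d ^ k) 2 = 1) :
    gtDiag d hd ^ k = gtDiag (d ^ k) hk := by
  apply Subtype.ext
  rw [Matrix.SpecialLinearGroup.coe_pow, gtDiag_coe, gtDiag_coe, Matrix.diagonal_pow]

theorem gt_diag_one (h1 : (1 : Fin 3 → K) 0 * (1 : Fin 3 → K) 1 * (1 : Fin 3 → K) 2 = 1) :
    gtDiag (1 : Fin 3 → K) h1 = 1 := by
  apply Subtype.ext
  rw [gtDiag_coe, Matrix.SpecialLinearGroup.coe_one]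
  exact Matrix.diagonal_one

theorem gt_diag_map {L : Type*} [Field L] (f : K →+* L) (d : Fin 3 → K) (hd : d 0 * d 1 * d 2 = 1)
    (hd' : (fun i => f (d i)) 0 * (fun i => f (d i)) 1 * (fun i => f (d i)) 2 = 1) :
    Matrix.SpecialLinearGroup.map f (gtDiag d hd) = gtDiag (fun i => f (d i)) hd' := by
  apply Subtype.ext
  rw [Matrix.SpecialLinearGroup.map_apply_coe, gtDiag_coe, gtDiag_coe, RingHom.mapMatrix_apply,
    Matrix.diagonal_map (map_zero f)]

theorem gt_perm_conj (e : Fin 3 → K) (he : e 0 * e 1 * e 2 = 1)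
    (he' : (![e 2, e 0, e 1] : Fin 3 → K) 0 * (![e 2, e 0, e 1] : Fin 3 → K) 1 *
      (![e 2, e 0, e 1] : Fin 3 → K) 2 = 1) :
    gtPerm K * gtDiag e he * (gtPerm K)⁻¹ = gtDiag ![e 2, e 0, e 1] he' := by
  rw [mul_inv_eq_iff_eq_mul]
  apply Subtype.ext
  rw [Matrix.SpecialLinearGroup.coe_mul, Matrix.SpecialLinearGroup.coe_mul, gtDiag_coe, gtDiag_coe]
  change gtPermMat K * _ = _ * gtPermMat K
  ext i j
  fin_cases i <;> fin_cases j <;>
    simp [gtPermMat, Matrix.mul_apply, Matrix.diagonal_apply]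

end three

end Cfsg.Agent.G2Tor
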