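import Mathlib
import Cfsg.Agent.G2Tor.Defs
import Cfsg.Agent.G2Tor.Three

set_option autoImplicit false

/-!
# S2371, package P2: a Singer cycle of `SL₃(F)` diagonalised over the cubic extension
-/

namespace Cfsg.Agent.G2Tor

open Cfsg Cfsg.Lie Matrix

section fixed

variable {F K : Type*} [Field F] [Fintype F] [Field K] [Algebra F K]

/-- An element of an extension of the finite field `F` fixed by `x ↦ x ^ |F|` lies in `F`. -/
theorem gt_p2_mem_range {x : K} (hx : x ^ Fintype.card F = x) : x ∈ Set.range (algebraMap F K) := by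
  classical
  by_contra hnot
  set q := Fintype.card F with hq
  have hq1 : 1 < q := Fintype.one_lt_card
  set p : Polynomial K := Polynomial.X ^ q - Polynomial.X with hp
  have hp0 : p ≠ 0 := FiniteField.X_pow_card_sub_X_ne_zero K hq1
  have hdeg : p.natDegree = q := FiniteField.X_pow_card_sub_X_natDegree_eq K hq1
  set S : Finset K := insert x (Finset.univ.image (algebraMap F K)) with hS
  have hsub : S.val ⊆ p.roots := by
    intro y hy
    rw [Finset.mem_val, hS, Finset.mem_insert, Finset.mem_image] at hy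
    rw [Polynomial.mem_roots hp0, Polynomial.IsRoot, hp, Polynomial.eval_sub, Polynomial.eval_pow,
      Polynomial.eval_X, sub_eq_zero]
    rcases hy with rfl | ⟨a, _, rfl⟩
    · exact hx
    · rw [← map_pow, FiniteField.pow_card]
  have hcard := Polynomial.card_le_degree_of_subset_roots hsub
  rw [hdeg, hS, Finset.card_insert_of_notMem, Finset.card_image_of_injective _
    (algebraMap F K).injective, Finset.card_univ] at hcard
  · omega
  · intro hmem
    rw [Finset.mem_image] at hmem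
    obtain ⟨a, _, ha⟩ := hmem
    exact hnot ⟨a, ha⟩

/-- Descent: an element of `SL₃(K)` fixed by the entrywise Frobenius comes from `SL₃(F)`. -/
theorem gt_p2_descent (σ : K →+* K) (hσ : ∀ x, σ x = x ^ Fintype.card F)
    (a : Matrix.SpecialLinearGroup (Fin 3) K) (ha : Matrix.SpecialLinearGroup.map σ a = a) :
    ∃ s₀ : Matrix.SpecialLinearGroup (Fin 3) F,
      Matrix.SpecialLinearGroup.map (algebraMap F K) s₀ = a := by
  have hent : ∀ i j, a.1 i j ∈ Set.range (algebraMap F K) := by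
    intro i j
    apply gt_p2_mem_range
    have := congrArg (fun m : Matrix.SpecialLinearGroup (Fin 3) K => m.1 i j) ha
    simp only [Matrix.SpecialLinearGroup.map_apply_coe, RingHom.mapMatrix_apply, Matrix.map_apply] at this
    rw [← hσ]
    exact this
  choose b hb using hent
  have hB : (Matrix.of b).map (algebraMap F K) = a.1 := by
    ext i j
    rw [Matrix.map_apply, Matrix.of_apply, hb]
  have hdet : (Matrix.of b).det = 1 := by
    apply (algebraMap F K).injective
    rw [RingHom.map_det, RingHom.mapMatrix_apply, hB, map_one]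
    exact a.2
  refine ⟨(⟨Matrix.of b, hdet⟩ : Matrix.SpecialLinearGroup (Fin 3) F), ?_⟩
  apply Subtype.ext
  exact hB

end fixed

end Cfsg.Agent.G2Tor

namespace Cfsg.Agent.G2Tor

open Cfsg Cfsg.Lie Matrix

section vander

variable {F K : Type*} [Field F] [Fintype F] [Field K] [Finite K] [Algebra F K]

theorem gt_p2_card (h3 : Module.finrank F K = 3) : Nat.card K = Fintype.card F ^ 3 := by
  have : Module.Finite F K := Module.finite_of_finrank_pos (by rw [h3]; norm_num)
  rw [Module.natCard_eq_pow_finrank (K := F) (V := K), h3, Nat.card_eq_fintype_card]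

theorem gt_p2_pow_card (h3 : Module.finrank F K = 3) (x : K) : x ^ Fintype.card F ^ 3 = x := by
  haveI := Fintype.ofFinite K
  have := FiniteField.pow_card x
  rwa [← Nat.card_eq_fintype_card, gt_p2_card h3] at this

theorem gt_p2_exists_theta (h3 : Module.finrank F K = 3) : ∃ θ : K, θ ∉ Set.range (algebraMap F K) := by
  by_contra hall
  push Not at hall
  have hsurj : Function.Surjective (algebraMap F K) := hall
  have hle := Nat.card_le_card_of_surjective _ hsurj
  rw [gt_p2_card h3, Nat.card_eq_fintype_card] at hle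
  have hq : 1 < Fintype.card F := Fintype.one_lt_card
  have : Fintype.card F ^ 1 < Fintype.card F ^ 3 := Nat.pow_lt_pow_right hq (by norm_num)
  rw [pow_one] at this
  omega

/-- The Vandermonde matrix of the conjugates of `θ`, normalised to determinant one: `P · σ(m) = m`. -/
theorem gt_p2_exists_m (h3 : Module.finrank F K = 3) (σ : K →+* K)
    (hσ : ∀ x, σ x = x ^ Fintype.card F) :
    ∃ m : Matrix.SpecialLinearGroup (Fin 3) K, gtPerm K * Matrix.SpecialLinearGroup.map σ m = m := by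
  set q := Fintype.card F with hq
  obtain ⟨θ, hθ⟩ := gt_p2_exists_theta (F := F) (K := K) h3
  have hθ3 : θ ^ q ^ 3 = θ := gt_p2_pow_card h3 θ
  have h01 : θ ^ q ≠ θ := fun h => hθ (gt_p2_mem_range h)
  have h02 : θ ^ q ^ 2 ≠ θ := by
    intro h
    apply h01
    calc θ ^ q = (θ ^ q ^ 2) ^ q := by rw [h]
      _ = θ ^ q ^ 3 := by rw [← pow_mul]; ring_nf
      _ = θ := hθ3
  have h12 : θ ^ q ^ 2 ≠ θ ^ q := by
    intro h
    apply h01
    calc θ ^ q = θ ^ q ^ 2 := h.symm
      _ = (θ ^ q) ^ q := by rw [← pow_mul, pow_two]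
      _ = (θ ^ q ^ 2) ^ q := by rw [h]
      _ = θ ^ q ^ 3 := by rw [← pow_mul]; ring_nf
      _ = θ := hθ3
  -- the three conjugates
  set v : Fin 3 → K := ![θ, θ ^ q, θ ^ q ^ 2] with hv
  have hvinj : Function.Injective v := by
    intro i j hij
    fin_cases i <;> fin_cases j <;> simp only [hv, Fin.zero_eta, Fin.mk_one, Fin.reduceFinMk,
      Matrix.cons_val_zero, Matrix.cons_val_one, Matrix.cons_val] at hij ⊢
    · exact absurd hij.symm h01
    · exact absurd hij.symm h02
    · exact absurd hij h01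
    · exact absurd hij.symm h12
    · exact absurd hij h02
    · exact absurd hij h12
  set M : Matrix (Fin 3) (Fin 3) K := Matrix.vandermonde v with hM
  have hdet : M.det ≠ 0 := Matrix.det_vandermonde_ne_zero_iff.mpr hvinj
  -- the Frobenius shifts the rows
  have hPM : gtPermMat K * M.map σ = M := by
    ext i j
    fin_cases i
    · simp only [gtPermMat, Matrix.mul_apply, Fin.sum_univ_three, Matrix.map_apply, hM,
        Matrix.vandermonde_apply, hv, hσ, Fin.zero_eta, Matrix.of_apply, Matrix.cons_val_zero,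
        Matrix.cons_val_one, Matrix.cons_val, zero_mul, one_mul, zero_add]
      rw [← pow_mul, ← pow_mul]
      have : q ^ 2 * (↑j * q) = q ^ 3 * (j : ℕ) := by ring
      rw [this, pow_mul, hθ3]
    · simp only [gtPermMat, Matrix.mul_apply, Fin.sum_univ_three, Matrix.map_apply, hM,
        Matrix.vandermonde_apply, hv, hσ, Fin.mk_one, Matrix.of_apply, Matrix.cons_val_zero,
        Matrix.cons_val_one, Matrix.cons_val, zero_mul, one_mul, add_zero]
      rw [← pow_mul, ← pow_mul, mul_comm]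
    · simp only [gtPermMat, Matrix.mul_apply, Fin.sum_univ_three, Matrix.map_apply, hM,
        Matrix.vandermonde_apply, hv, hσ, Fin.reduceFinMk, Matrix.of_apply, Matrix.cons_val_zero,
        Matrix.cons_val_one, Matrix.cons_val, zero_mul, one_mul, zero_add, add_zero]
      rw [← pow_mul, ← pow_mul, ← pow_mul]
      congr 1
      ring
  -- the determinant is fixed
  have hσdet : σ M.det = M.det := by
    have h1 : (gtPermMat K * M.map σ).det = M.det := by rw [hPM]
    rw [Matrix.det_mul, gtPermMat_det, one_mul] at h1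
    rw [RingHom.map_det, RingHom.mapMatrix_apply]
    exact h1
  set δ := M.det with hδ
  set C : Matrix (Fin 3) (Fin 3) K := Matrix.diagonal ![δ⁻¹, 1, 1] with hC
  have hCσ : C.map σ = C := by
    rw [hC, Matrix.diagonal_map (map_zero σ)]
    congr 1
    funext i
    fin_cases i
    · simp only [Fin.zero_eta, Matrix.cons_val_zero]
      rw [map_inv₀, hσdet]
    · simp
    · simp
  have hdet' : (M * C).det = 1 := by
    rw [Matrix.det_mul, hC, Matrix.det_diagonal, Fin.prod_univ_three]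
    simp only [Matrix.cons_val_zero, Matrix.cons_val_one, Matrix.cons_val, mul_one]
    exact mul_inv_cancel₀ hdet
  refine ⟨(⟨M * C, hdet'⟩ : Matrix.SpecialLinearGroup (Fin 3) K), ?_⟩
  apply Subtype.ext
  change gtPermMat K * (M * C).map σ = M * C
  rw [Matrix.map_mul, hCσ, ← Matrix.mul_assoc, hPM]

end vander

end Cfsg.Agent.G2Tor

namespace Cfsg.Agent.G2Tor

open Cfsg Cfsg.Lie Matrix

section main

variable {F K : Type*} [Field F] [Fintype F] [Field K] [Finite K] [Algebra F K]

/-- An element of order `q² + q + 1` in the cubic extension. -/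
theorem gt_p2_exists_zeta (h3 : Module.finrank F K = 3) :
    ∃ ζ : K, orderOf ζ = Fintype.card F ^ 2 + Fintype.card F + 1 := by
  set q := Fintype.card F with hq
  obtain ⟨k, hk⟩ : ∃ k, q = k + 1 := ⟨q - 1, by have : 1 < q := Fintype.one_lt_card; omega⟩
  have hk0 : k ≠ 0 := by
    rintro rfl
    have : 1 < q := Fintype.one_lt_card
    omega
  obtain ⟨g, hg⟩ := IsCyclic.exists_generator (α := Kˣ)
  have hord : orderOf g = k * (q ^ 2 + q + 1) := by
    rw [orderOf_eq_card_of_forall_mem_zpowers hg, Nat.card_units, gt_p2_card h3, ← hq, hk]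
    have : (k + 1) ^ 3 = k * ((k + 1) ^ 2 + (k + 1) + 1) + 1 := by ring
    omega
  refine ⟨((g ^ k : Kˣ) : K), ?_⟩
  rw [orderOf_units, orderOf_pow_of_dvd hk0 (by rw [hord]; exact dvd_mul_right _ _), hord,
    Nat.mul_div_cancel_left _ (Nat.pos_of_ne_zero hk0)]

/-- Package P2. -/
theorem gt_singer (F K : Type*) [Field F] [Fintype F] [Field K] [Finite K] [Algebra F K]
    (h3 : Module.finrank F K = 3) (σ : K →+* K) (hσ : ∀ x, σ x = x ^ Fintype.card F) :
    ∃ (ζ : K) (hd : ζ * ζ ^ Fintype.card F * ζ ^ (Fintype.card F) ^ 2 = 1)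
      (s₀ : Matrix.SpecialLinearGroup (Fin 3) F) (g₀ : Matrix.SpecialLinearGroup (Fin 3) K),
      orderOf ζ = Fintype.card F ^ 2 + Fintype.card F + 1 ∧
      Matrix.SpecialLinearGroup.map (algebraMap F K) s₀ =
        g₀ * gtDiag ![ζ, ζ ^ Fintype.card F, ζ ^ (Fintype.card F) ^ 2] hd * g₀⁻¹ ∧
      Matrix.SpecialLinearGroup.map σ g₀ = g₀ * gtPerm K := by
  set q := Fintype.card F with hq
  obtain ⟨ζ, hζ⟩ := gt_p2_exists_zeta (F := F) (K := K) h3
  obtain ⟨m, hm⟩ := gt_p2_exists_m (F := F) (K := K) h3 σ hσ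
  have hζN : ζ ^ (q ^ 2 + q + 1) = 1 := by rw [← hζ]; exact pow_orderOf_eq_one ζ
  have hd : ζ * ζ ^ q * ζ ^ q ^ 2 = 1 := by
    rw [← hζN, pow_succ, pow_add]
    ring
  have hζ3 : ζ ^ q ^ 3 = ζ := gt_p2_pow_card h3 ζ
  -- the image of the diagonal element under the Frobenius
  have hd' : (fun i => σ ((![ζ, ζ ^ q, ζ ^ q ^ 2] : Fin 3 → K) i)) 0 *
      (fun i => σ ((![ζ, ζ ^ q, ζ ^ q ^ 2] : Fin 3 → K) i)) 1 *
      (fun i => σ ((![ζ, ζ ^ q, ζ ^ q ^ 2] : Fin 3 → K) i)) 2 = 1 := by
    simp only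
    rw [← map_mul, ← map_mul]
    simp only [Matrix.cons_val_zero, Matrix.cons_val_one, Matrix.cons_val]
    rw [hd, map_one]
  have hσd : Matrix.SpecialLinearGroup.map σ (gtDiag ![ζ, ζ ^ q, ζ ^ q ^ 2] hd) =
      gtDiag (fun i => σ ((![ζ, ζ ^ q, ζ ^ q ^ 2] : Fin 3 → K) i)) hd' :=
    gt_diag_map σ _ hd hd'
  have hperm' : (![(fun i => σ ((![ζ, ζ ^ q, ζ ^ q ^ 2] : Fin 3 → K) i)) 2,
      (fun i => σ ((![ζ, ζ ^ q, ζ ^ q ^ 2] : Fin 3 → K) i)) 0,
      (fun i => σ ((![ζ, ζ ^ q, ζ ^ q ^ 2] : Fin 3 → K) i)) 1] : Fin 3 → K) 0 *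
      (![(fun i => σ ((![ζ, ζ ^ q, ζ ^ q ^ 2] : Fin 3 → K) i)) 2,
      (fun i => σ ((![ζ, ζ ^ q, ζ ^ q ^ 2] : Fin 3 → K) i)) 0,
      (fun i => σ ((![ζ, ζ ^ q, ζ ^ q ^ 2] : Fin 3 → K) i)) 1] : Fin 3 → K) 1 *
      (![(fun i => σ ((![ζ, ζ ^ q, ζ ^ q ^ 2] : Fin 3 → K) i)) 2,
      (fun i => σ ((![ζ, ζ ^ q, ζ ^ q ^ 2] : Fin 3 → K) i)) 0,
      (fun i => σ ((![ζ, ζ ^ q, ζ ^ q ^ 2] : Fin 3 → K) i)) 1] : Fin 3 → K) 2 = 1 := by
    have := hd'
    simp only [Matrix.cons_val_zero, Matrix.cons_val_one, Matrix.cons_val] at this ⊢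
    rw [← this]
    ring
  have hconjP : gtPerm K * Matrix.SpecialLinearGroup.map σ (gtDiag ![ζ, ζ ^ q, ζ ^ q ^ 2] hd) *
      (gtPerm K)⁻¹ = gtDiag ![ζ, ζ ^ q, ζ ^ q ^ 2] hd := by
    rw [hσd, gt_perm_conj _ hd' hperm']
    apply gt_diag_congr
    funext i
    fin_cases i
    · simp only [Fin.zero_eta, Matrix.cons_val_zero, Matrix.cons_val]
      rw [hσ, ← pow_mul]
      have : q ^ 2 * q = q ^ 3 := by ring
      rw [this, hζ3]
    · simp only [Fin.mk_one, Matrix.cons_val_one, Matrix.cons_val_zero]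
      rw [hσ]
    · simp only [Fin.reduceFinMk, Matrix.cons_val, Matrix.cons_val_one, Matrix.cons_val_zero]
      rw [hσ, ← pow_mul, pow_two]
  -- the Singer element over `K`
  set dζ := gtDiag ![ζ, ζ ^ q, ζ ^ q ^ 2] hd with hdζ
  set a : Matrix.SpecialLinearGroup (Fin 3) K := m⁻¹ * dζ * m with ha
  have hσm : Matrix.SpecialLinearGroup.map σ m = (gtPerm K)⁻¹ * m := by
    rw [eq_inv_mul_iff_mul_eq]; exact hm
  have hσa : Matrix.SpecialLinearGroup.map σ a = a := by
    rw [ha, map_mul, map_mul, map_inv, hσm]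
    calc ((gtPerm K)⁻¹ * m)⁻¹ * Matrix.SpecialLinearGroup.map σ dζ * ((gtPerm K)⁻¹ * m)
        = m⁻¹ * (gtPerm K * Matrix.SpecialLinearGroup.map σ dζ * (gtPerm K)⁻¹) * m := by group
      _ = m⁻¹ * dζ * m := by rw [hconjP]
  obtain ⟨s₀, hs₀⟩ := gt_p2_descent σ hσ a hσa
  refine ⟨ζ, hd, s₀, m⁻¹, hζ, ?_, ?_⟩
  · rw [hs₀, ha, inv_inv]
  · rw [map_inv, hσm]
    group

end main

end Cfsg.Agent.G2Tor
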