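import Mathlib
import Cfsg.Agent.G2Tor.Three
import Cfsg.Agent.G2Tor.PhiExists
import Cfsg.Agent.G2Tor.PhiTorus
import Cfsg.Agent.G2Tor.Singer
import Cfsg.Agent.G2Tor.RegCent
import Cfsg.Agent.G2Tor.Expo

set_option autoImplicit false

/-!
# S2371: the count `|C(T)| ≤ q² + q + 1` and the assembly
-/

namespace Cfsg.Agent.G2Tor

open Cfsg Cfsg.Lie Matrix Cfsg.Agent.Helper7.Chev

section core

variable {F K : Type*} [Field F] [Fintype F] [Field K] [Algebra F K]
  {φF : Matrix.SpecialLinearGroup (Fin 3) F →* GL chevG2.Idx F}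
  {φK : Matrix.SpecialLinearGroup (Fin 3) K →* GL chevG2.Idx K}

/-- The entrywise Frobenius fixes the image of `GL(F)`. -/
theorem gt_frob_glMap (σ : K →+* K) (hσ : ∀ x, σ x = x ^ Fintype.card F) (c : GL chevG2.Idx F) :
    glMap (D := chevG2) σ (glMap (D := chevG2) (algebraMap F K) c) =
      glMap (D := chevG2) (algebraMap F K) c := by
  apply Units.ext
  rw [glMap_coe, glMap_coe]
  ext i j
  rw [Matrix.map_apply, Matrix.map_apply, hσ, ← map_pow, FiniteField.pow_card]

/-- The main step: an element of `G₂(F)` commuting with `φ_F(s₀)` is, over `K`, the conjugate under `φ_K(g₀)` of a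
torus element `φ_K(diag(x, x^q, x^{q²}))`. -/
theorem gt_count_core (hφF : GtSpec φF) (hφK : GtSpec φK) (hq : 3 ≤ Fintype.card F)
    (σ : K →+* K) (hσ : ∀ x, σ x = x ^ Fintype.card F)
    (ζ : K) (hd : ζ * ζ ^ Fintype.card F * ζ ^ (Fintype.card F) ^ 2 = 1)
    (s₀ : Matrix.SpecialLinearGroup (Fin 3) F) (g₀ : Matrix.SpecialLinearGroup (Fin 3) K)
    (hord : orderOf ζ = Fintype.card F ^ 2 + Fintype.card F + 1)
    (hconj : Matrix.SpecialLinearGroup.map (algebraMap F K) s₀ =
      g₀ * gtDiag ![ζ, ζ ^ Fintype.card F, ζ ^ (Fintype.card F) ^ 2] hd * g₀⁻¹)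
    (hfrob : Matrix.SpecialLinearGroup.map σ g₀ = g₀ * gtPerm K)
    {c : GL chevG2.Idx F} (hc : c ∈ chevG2.group F) (hcomm : c * φF s₀ = φF s₀ * c) :
    ∃ (x : K) (hx : x * x ^ Fintype.card F * x ^ (Fintype.card F) ^ 2 = 1),
      glMap (D := chevG2) (algebraMap F K) c =
        φK g₀ * φK (gtDiag ![x, x ^ Fintype.card F, x ^ (Fintype.card F) ^ 2] hx) * (φK g₀)⁻¹ := by
  set q := Fintype.card F with hqdef
  set ι := algebraMap F K with hι
  set c' := glMap (D := chevG2) ι c with hc'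
  set g := φK g₀ with hg
  set dζ : Fin 3 → K := ![ζ, ζ ^ q, ζ ^ q ^ 2] with hdζ
  set t' := φK (gtDiag dζ hd) with ht'
  -- the image of `s`
  have hs : glMap (D := chevG2) ι (φF s₀) = g * t' * g⁻¹ := by
    rw [← gt_phi_natural hφF ι hφK s₀, hconj, map_mul, map_mul, map_inv]
  -- `c'` commutes with it
  have hcomm' : c' * (g * t' * g⁻¹) = (g * t' * g⁻¹) * c' := by
    rw [← hs, hc', ← map_mul, ← map_mul, hcomm]
  set h := g⁻¹ * c' * g with hh
  have hht : h * t' = t' * h := by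
    have e1 : h * t' = g⁻¹ * (c' * (g * t' * g⁻¹)) * g := by rw [hh]; group
    have e2 : t' * h = g⁻¹ * ((g * t' * g⁻¹) * c') * g := by rw [hh]; group
    rw [e1, e2, hcomm']
  -- membership
  have hc'G : c' ∈ chevG2.group K := map_group_le ι ⟨c, hc, rfl⟩
  have hgG : g ∈ chevG2.group K := gt_phi_mem hφK g₀
  have hhG : h ∈ chevG2.group K := mul_mem (mul_mem (inv_mem hgG) hc'G) hgG
  -- regularity
  have hζ0 : ζ ≠ 0 := by
    rintro rfl
    rw [orderOf_eq_zero_iff'.mpr (fun n hn => by rw [zero_pow hn.ne']; exact zero_ne_one)] at hord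
    omega
  obtain ⟨hne1, hinj⟩ := gt_regular (K := K) q hq ζ hord
  have hcpar : ∀ i < chevG2.rank, gtPar dζ i ≠ 0 := by
    intro i _
    unfold gtPar
    split_ifs
    · exact mul_ne_zero (by simp [hdζ, hζ0]) (by simp [hdζ, hζ0])
    · exact mul_ne_zero (pow_ne_zero _ (by simp [hdζ, hζ0])) (by simp [hdζ, hζ0])
  have hhH : h ∈ chevG2.diagonalSubgroup K :=
    gt_centralizer_regular (gtPar dζ) hcpar hne1 hinj (gt_phi_diag hφK dζ hd)
      (gt_phi_diag_mem hφK dζ hd) hhG hht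
  obtain ⟨d, hdd, hdh⟩ := gt_phi_diag_surj hφK hhH
  -- Frobenius
  have hσc : glMap (D := chevG2) σ c' = c' := gt_frob_glMap σ hσ c
  have hσg : glMap (D := chevG2) σ g = g * φK (gtPerm K) := by
    rw [hg, ← gt_phi_natural hφK σ hφK g₀, hfrob, map_mul]
  have hdσ : (fun i => σ (d i)) 0 * (fun i => σ (d i)) 1 * (fun i => σ (d i)) 2 = 1 := by
    simp only
    rw [← map_mul, ← map_mul, hdd, map_one]
  have hσh : glMap (D := chevG2) σ h = φK (gtDiag (fun i => σ (d i)) hdσ) := by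
    rw [← hdh, ← gt_phi_natural hφK σ hφK, gt_diag_map σ d hdd hdσ]
  have hce : c' = g * h * g⁻¹ := by rw [hh]; group
  have hkey : h = φK (gtPerm K) * glMap (D := chevG2) σ h * (φK (gtPerm K))⁻¹ := by
    have e1 : glMap (D := chevG2) σ c' =
        (g * φK (gtPerm K)) * glMap (D := chevG2) σ h * (g * φK (gtPerm K))⁻¹ := by
      conv_lhs => rw [hce]
      rw [map_mul, map_mul, map_inv, hσg]
    rw [hσc] at e1
    calc h = g⁻¹ * c' * g := hh
      _ = g⁻¹ * ((g * φK (gtPerm K)) * glMap (D := chevG2) σ h * (g * φK (gtPerm K))⁻¹) * g :=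
          congrArg (fun z => g⁻¹ * z * g) e1
      _ = _ := by group
  have hperm' : (![σ (d 2), σ (d 0), σ (d 1)] : Fin 3 → K) 0 * (![σ (d 2), σ (d 0), σ (d 1)] : Fin 3 → K) 1 *
      (![σ (d 2), σ (d 0), σ (d 1)] : Fin 3 → K) 2 = 1 := by
    simp only [Matrix.cons_val_zero, Matrix.cons_val_one, Matrix.cons_val]
    have := hdσ
    simp only at this
    rw [← this]
    ring
  have hkey2 : φK (gtDiag d hdd) = φK (gtDiag ![σ (d 2), σ (d 0), σ (d 1)] hperm') := by
    rw [hdh]
    conv_lhs => rw [hkey]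
    rw [hσh, ← map_inv, ← map_mul, ← map_mul, gt_perm_conj (fun i => σ (d i)) hdσ hperm']
  have hdeq := gt_phi_diag_inj hφK d _ hdd hperm' hkey2
  have h1 : d 1 = d 0 ^ q := by
    have := congrFun hdeq 1
    simp only [Matrix.cons_val_one, Matrix.cons_val_zero] at this
    rw [this, hσ]
  have h2 : d 2 = d 0 ^ q ^ 2 := by
    have := congrFun hdeq 2
    simp only [Matrix.cons_val] at this
    rw [this, hσ, h1, ← pow_mul, pow_two]
  have hx : d 0 * d 0 ^ q * d 0 ^ q ^ 2 = 1 := by rw [← h1, ← h2]; exact hdd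
  refine ⟨d 0, hx, ?_⟩
  rw [hce, ← hdh]
  congr 2
  apply congrArg
  apply gt_diag_congr
  funext i
  fin_cases i
  · rfl
  · exact h1
  · exact h2

end core

end Cfsg.Agent.G2Tor

namespace Cfsg.Agent.G2Tor

open Cfsg Cfsg.Lie Matrix Cfsg.Agent.Helper7.Chev

section order

variable {F K : Type*} [Field F] [Fintype F] [Field K] [Algebra F K]
  {φF : Matrix.SpecialLinearGroup (Fin 3) F →* GL chevG2.Idx F}
  {φK : Matrix.SpecialLinearGroup (Fin 3) K →* GL chevG2.Idx K}

/-- The order of the image of a torus element `diag(x, x^a, x^b)`. -/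
theorem gt_order_diag (hφK : GtSpec φK) (a b : ℕ) (ζ : K) (hd : ζ * ζ ^ a * ζ ^ b = 1) :
    orderOf (φK (gtDiag ![ζ, ζ ^ a, ζ ^ b] hd)) = orderOf ζ := by
  rw [orderOf_eq_orderOf_iff]
  intro k
  have hk : ((![ζ, ζ ^ a, ζ ^ b] : Fin 3 → K) ^ k) 0 * ((![ζ, ζ ^ a, ζ ^ b] : Fin 3 → K) ^ k) 1 *
      ((![ζ, ζ ^ a, ζ ^ b] : Fin 3 → K) ^ k) 2 = 1 := by
    simp only [Pi.pow_apply, Matrix.cons_val_zero, Matrix.cons_val_one, Matrix.cons_val]
    rw [← mul_pow, ← mul_pow, hd, one_pow]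
  have h1 : (1 : Fin 3 → K) 0 * (1 : Fin 3 → K) 1 * (1 : Fin 3 → K) 2 = 1 := by simp
  rw [← map_pow, gt_diag_pow _ hd k hk]
  constructor
  · intro h
    rw [← map_one φK, ← gt_diag_one h1] at h
    have := congrFun (gt_phi_diag_inj hφK _ _ hk h1 h) 0
    simpa using this
  · intro h
    rw [← map_one φK, ← gt_diag_one h1]
    apply congrArg
    apply gt_diag_congr
    funext i
    fin_cases i
    · simpa using h
    · simp only [Pi.pow_apply, Fin.mk_one, Matrix.cons_val_one, Matrix.cons_val_zero, Pi.one_apply]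
      rw [← pow_mul, mul_comm, pow_mul, h, one_pow]
    · change (ζ ^ b) ^ k = 1
      rw [← pow_mul, mul_comm, pow_mul, h, one_pow]

end order

end Cfsg.Agent.G2Tor

namespace Cfsg.Agent.G2Tor

open Cfsg Cfsg.Lie Matrix Cfsg.Agent.Helper7.Chev

theorem gt_card_roots {K : Type*} [Field K] (q : ℕ) :
    Nat.card {x : K // x * x ^ q * x ^ q ^ 2 = 1} ≤ q ^ 2 + q + 1 := by
  classical
  have hN : 0 < q ^ 2 + q + 1 := by omega
  have hmem : ∀ x : {x : K // x * x ^ q * x ^ q ^ 2 = 1},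
      x.1 ∈ Polynomial.nthRootsFinset (q ^ 2 + q + 1) (1 : K) := by
    intro x
    rw [Polynomial.mem_nthRootsFinset hN, pow_succ, pow_add]
    obtain ⟨y, hy⟩ := x
    change y ^ q ^ 2 * y ^ q * y = 1
    rw [← hy]
    ring
  calc Nat.card {x : K // x * x ^ q * x ^ q ^ 2 = 1}
      ≤ Nat.card (Polynomial.nthRootsFinset (q ^ 2 + q + 1) (1 : K)) :=
        Nat.card_le_card_of_injective (fun x => ⟨x.1, hmem x⟩) (by
          intro a b h
          exact Subtype.ext (congrArg (fun z => z.1) h))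
    _ = (Polynomial.nthRootsFinset (q ^ 2 + q + 1) (1 : K)).card := by
        rw [Nat.card_eq_fintype_card, Fintype.card_coe]
    _ ≤ q ^ 2 + q + 1 := by
        unfold Polynomial.nthRootsFinset
        exact (Multiset.toFinset_card_le _).trans (Polynomial.card_nthRoots _ _)

/-- S2371, given a cubic extension `K` of `F` with its Frobenius. -/
theorem gt_main_aux {F K : Type*} [Field F] [Fintype F] [Field K] [Finite K] [Algebra F K]
    (h3 : Module.finrank F K = 3) (σ : K →+* K) (hσ : ∀ x, σ x = x ^ Fintype.card F)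
    (hq : 3 ≤ Fintype.card F) :
    ∃ H : Subgroup ↥(chevG2.group F), IsCyclic ↥H ∧
      Nat.card ↥H = Fintype.card F ^ 2 + Fintype.card F + 1 ∧
      Subgroup.centralizer (H : Set ↥(chevG2.group F)) = H := by
  classical
  obtain ⟨ζ, hd, s₀, g₀, hord, hconj, hfrob⟩ := gt_singer F K h3 σ hσ
  obtain ⟨φF, hφF⟩ := gt_phi_exists F
  obtain ⟨φK, hφK⟩ := gt_phi_exists K
  set q := Fintype.card F with hqdef
  set ι := algebraMap F K with hι
  set s : ↥(chevG2.group F) := ⟨φF s₀, gt_phi_mem hφF s₀⟩ with hs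
  -- the order of `s`
  have hos : orderOf s = q ^ 2 + q + 1 := by
    have e1 : orderOf s = orderOf (φF s₀) := (Subgroup.orderOf_coe s).symm
    have e2 : orderOf (glMap (D := chevG2) ι (φF s₀)) = orderOf (φF s₀) :=
      orderOf_injective _ (glMap_injective ι) _
    have e3 : glMap (D := chevG2) ι (φF s₀) =
        φK g₀ * φK (gtDiag ![ζ, ζ ^ q, ζ ^ q ^ 2] hd) * (φK g₀)⁻¹ := by
      rw [← gt_phi_natural hφF ι hφK s₀, hconj, map_mul, map_mul, map_inv]
    have e4 : orderOf (φK g₀ * φK (gtDiag ![ζ, ζ ^ q, ζ ^ q ^ 2] hd) * (φK g₀)⁻¹) =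
        orderOf (φK (gtDiag ![ζ, ζ ^ q, ζ ^ q ^ 2] hd)) :=
      orderOf_injective (MulAut.conj (φK g₀)).toMonoidHom (MulAut.conj (φK g₀)).injective _
    rw [e1, ← e2, e3, e4, gt_order_diag hφK, hord]
  refine ⟨Subgroup.zpowers s, inferInstance, ?_, ?_⟩
  · rw [Nat.card_zpowers, hos]
  · -- the centralizer
    have hle : Subgroup.zpowers s ≤ Subgroup.centralizer (Subgroup.zpowers s : Set ↥(chevG2.group F)) := by
      intro a ha
      rw [Subgroup.mem_centralizer_iff]
      intro b hb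
      obtain ⟨m, rfl⟩ := Subgroup.mem_zpowers_iff.mp ha
      obtain ⟨n, rfl⟩ := Subgroup.mem_zpowers_iff.mp hb
      exact zpow_mul_comm s n m
    symm
    apply Subgroup.eq_of_le_of_card_ge hle
    rw [Nat.card_zpowers, hos]
    -- the injection into the roots of unity
    have hex : ∀ c : ↥(Subgroup.centralizer (Subgroup.zpowers s : Set ↥(chevG2.group F))),
        ∃ x : {x : K // x * x ^ q * x ^ q ^ 2 = 1},
          glMap (D := chevG2) ι ((c : ↥(chevG2.group F)) : GL chevG2.Idx F) =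
            φK g₀ * φK (gtDiag ![x.1, x.1 ^ q, x.1 ^ q ^ 2] x.2) * (φK g₀)⁻¹ := by
      intro c
      have hcs := Subgroup.mem_centralizer_iff.mp c.2 s (Subgroup.mem_zpowers s)
      have hcs' : ((c : ↥(chevG2.group F)) : GL chevG2.Idx F) * φF s₀ =
          φF s₀ * ((c : ↥(chevG2.group F)) : GL chevG2.Idx F) :=
        (congrArg (fun z : ↥(chevG2.group F) => (z : GL chevG2.Idx F)) hcs).symm
      obtain ⟨x, hx, e⟩ := gt_count_core hφF hφK hq σ hσ ζ hd s₀ g₀ hord hconj hfrob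
        (c : ↥(chevG2.group F)).2 hcs'
      exact ⟨⟨x, hx⟩, e⟩
    choose X hX using hex
    have hXinj : Function.Injective X := by
      intro c c' h
      have : glMap (D := chevG2) ι ((c : ↥(chevG2.group F)) : GL chevG2.Idx F) =
          glMap (D := chevG2) ι ((c' : ↥(chevG2.group F)) : GL chevG2.Idx F) := by
        rw [hX, hX, h]
      exact Subtype.ext (Subtype.ext (glMap_injective ι this))
    exact (Nat.card_le_card_of_injective X hXinj).trans (gt_card_roots q)

/-- S2371. -/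
theorem gt_main {F : Type*} [Field F] [Fintype F] (q : ℕ) (hF : Fintype.card F = q) (hq : 3 ≤ q) :
    ∃ H : Subgroup ↥(chevG2.group F), IsCyclic ↥H ∧ Nat.card ↥H = q ^ 2 + q + 1 ∧
      Subgroup.centralizer (H : Set ↥(chevG2.group F)) = H := by
  classical
  subst hF
  obtain ⟨p, hp⟩ := CharP.exists F
  haveI : Fact p.Prime := ⟨CharP.char_is_prime F p⟩
  have h3 : Module.finrank F (FiniteField.Extension F p 3) = 3 := FiniteField.finrank_extension F p 3
  refine gt_main_aux h3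
    ((FiniteField.Extension.frob F p 3 : FiniteField.Extension F p 3 ≃ₐ[F] FiniteField.Extension F p 3) :
      FiniteField.Extension F p 3 →+* FiniteField.Extension F p 3) ?_ hq
  intro x
  have := FiniteField.Extension.frob_apply F p 3 (x := x)
  rw [Nat.card_eq_fintype_card] at this
  exact this

end Cfsg.Agent.G2Tor
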